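import Mathlib
import Cfsg.Agent.Lib.Core.Commutator

/-! The Baer trick: a group of odd exponent and class at most two carries an abelian group structure that is
preserved by all automorphisms. -/

set_option autoImplicit false

namespace CfsgLib.TB

open Subgroup
open scoped commutatorElement

/-- The underlying set of `X`, to be equipped with the Baer multiplication `x ∘ y = [y, x] ^ m x y`. -/
@[ext] structure Baer (X : Type*) [Group X] (m : ℕ) (_hc : commutator X ≤ center X)
    (_hm : ∀ x : X, x ^ (2 * m) = x) where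
  /-- the element of `X` -/
  val : X

namespace Baer

variable {X : Type*} [Group X] {m : ℕ} {hc : commutator X ≤ center X} {hm : ∀ x : X, x ^ (2 * m) = x}

theorem comm_commutatorElement (hc : commutator X ≤ center X) (x y z : X) : Commute z ⁅x, y⁆ :=
  mem_center_iff.mp (hc (commutator_mem_commutator (mem_top x) (mem_top y))) z

instance : CommGroup (Baer X m hc hm) where
  mul x y := ⟨⁅y.val, x.val⁆ ^ m * (x.val * y.val)⟩
  one := ⟨1⟩
  inv x := ⟨x.val⁻¹⟩
  mul_assoc x y z := by
    obtain ⟨x⟩ := x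
    obtain ⟨y⟩ := y
    obtain ⟨z⟩ := z
    have c := comm_commutatorElement hc
    refine Baer.ext ?_
    change ⁅z, ⁅y, x⁆ ^ m * (x * y)⁆ ^ m * (⁅y, x⁆ ^ m * (x * y) * z) =
      ⁅⁅z, y⁆ ^ m * (y * z), x⁆ ^ m * (x * (⁅z, y⁆ ^ m * (y * z)))
    rw [Core.commutatorElement_mul_right_of_commute (c _ _ _), Core.commutatorElement_mul_right_of_commute (c _ _ _),
      Core.commutatorElement_mul_left_of_commute (c _ _ _), Core.commutatorElement_mul_left_of_commute (c _ _ _),
      commutatorElement_eq_one_iff_commute.mpr ((c y x z).pow_right m),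
      commutatorElement_eq_one_iff_commute.mpr ((c z y x).pow_right m).symm, one_mul, mul_one,
      (c _ _ _).mul_pow, (c _ _ _).mul_pow, ← mul_assoc x, ((c z y x).pow_right m).eq]
    simp only [mul_assoc]
    rw [← mul_assoc (⁅z, y⁆ ^ m), ((c y x _).pow_right m).eq, mul_assoc]
  one_mul x := Baer.ext (by change ⁅x.val, 1⁆ ^ m * (1 * x.val) = x.val; simp)
  mul_one x := Baer.ext (by change ⁅1, x.val⁆ ^ m * (x.val * 1) = x.val; simp)
  inv_mul_cancel x := Baer.ext (by change ⁅x.val, x.val⁻¹⁆ ^ m * (x.val⁻¹ * x.val) = 1; simp [commutatorElement_def])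
  mul_comm x y := by
    obtain ⟨x⟩ := x
    obtain ⟨y⟩ := y
    refine Baer.ext ?_
    change ⁅y, x⁆ ^ m * (x * y) = ⁅x, y⁆ ^ m * (y * x)
    have h := hm ⁅x, y⁆
    rw [two_mul, pow_add] at h
    rw [show x * y = ⁅x, y⁆ * (y * x) by group, ← commutatorElement_inv x y, inv_pow, ← mul_assoc]
    congr 1
    rw [inv_mul_eq_iff_eq_mul, h]

theorem val_mul (x y : Baer X m hc hm) : (x * y).val = ⁅y.val, x.val⁆ ^ m * (x.val * y.val) := rfl

@[simp] theorem val_one : (1 : Baer X m hc hm).val = 1 := rfl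

theorem val_pow (x : Baer X m hc hm) (n : ℕ) : (x ^ n).val = x.val ^ n := by
  induction n with
  | zero => simp
  | succ n ih =>
    rw [pow_succ, val_mul, ih, commutatorElement_eq_one_iff_commute.mpr (Commute.self_pow _ _), one_pow, one_mul,
      pow_succ]

/-- The underlying bijection with `X`. -/
def equiv : Baer X m hc hm ≃ X where
  toFun := val
  invFun x := ⟨x⟩

variable (hc hm) in
/-- An endomorphism of `X` preserves the Baer multiplication. -/
def map : Monoid.End X →* Monoid.End (Baer X m hc hm) where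
  toFun φ :=
    { toFun x := ⟨φ x.val⟩
      map_one' := Baer.ext (map_one φ)
      map_mul' x y := Baer.ext (by simp only [val_mul, map_mul, map_pow, map_commutatorElement]) }
  map_one' := rfl
  map_mul' _ _ := rfl

@[simp] theorem map_val (φ : Monoid.End X) (x : Baer X m hc hm) : (map hc hm φ x).val = φ x.val := rfl

end Baer

/-- The abelian case of the `P × Q` lemma for a normal `Q`. -/
theorem fixed_of_comm {W L : Type*} [CommGroup W] [Finite W] [Group L] [Finite L] {p : ℕ} [hp : Fact p.Prime]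
    (hW : IsPGroup p W) (φ : L →* Monoid.End W) {E K : Subgroup L} (hE : IsPGroup p E)
    (hK : (Nat.card K).Coprime p) (hEK : E ≤ normalizer (K : Set L))
    (h : ∀ w, (∀ e ∈ E, φ e w = w) → ∀ k ∈ K, φ k w = w) : ∀ k ∈ K, ∀ w, φ k w = w := by
  classical
  have := Fintype.ofFinite K
  let N : W →* W := ∏ k : K, (φ k : W →* W)
  have hN : ∀ w, N w = ∏ k : K, φ k w := fun w => MonoidHom.finsetProd_apply _ _ _
  have hmul : ∀ a b w, φ (a * b) w = φ a (φ b w) := fun a b w => by rw [map_mul]; rfl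
  have hinv : ∀ e : E, ∀ w ∈ N.ker, φ e w ∈ N.ker := by
    intro e w hw
    rw [MonoidHom.mem_ker, hN] at hw ⊢
    have := congrArg (φ e) hw
    rw [map_prod, map_one] at this
    rw [← this]
    refine (Fintype.prod_equiv (normalizerMonoidHom K ⟨e, hEK e.2⟩).toEquiv _ _ fun k => ?_).symm
    rw [← hmul, ← hmul]
    congr 2
    change _ = (e : L) * k * (e : L)⁻¹ * e
    group
  let _ : MulAction E N.ker :=
    { smul e w := ⟨φ e w, hinv e w w.2⟩
      one_smul w := Subtype.ext (by change φ ((1 : E) : L) w = w; simp)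
      mul_smul a b w := Subtype.ext (hmul a b w) }
  intro k hk w
  by_contra hne
  have hmem : φ k w * w⁻¹ ∈ N.ker := by
    rw [MonoidHom.mem_ker, map_mul, map_inv, mul_inv_eq_one, hN, hN]
    exact Fintype.prod_equiv (Equiv.mulRight (⟨k, hk⟩ : K)) _ _ fun j => (hmul _ _ _).symm
  have hnt : N.ker ≠ ⊥ := fun h0 => hne (by rw [h0, mem_bot, mul_inv_eq_one] at hmem; exact hmem)
  have hdvd : p ∣ Nat.card N.ker := by
    obtain ⟨n, hn⟩ := (hW.to_subgroup N.ker).exists_card_eq
    rw [hn]
    refine dvd_pow_self p ?_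
    rintro rfl
    exact hnt (card_eq_one.mp hn)
  obtain ⟨b, hb, hb1⟩ := hE.exists_fixed_point_of_prime_dvd_card_of_fixed_point N.ker hdvd (a := 1)
    fun e => Subtype.ext (map_one (φ e))
  have hb' := h b fun e he => congrArg Subtype.val (hb ⟨e, he⟩)
  have h1 : (b : W) ^ Nat.card K = 1 := by
    have := b.2
    rwa [MonoidHom.mem_ker, hN, Finset.prod_congr rfl fun (j : K) _ => hb' j j.2, Finset.prod_const,
      Finset.card_univ, ← Nat.card_eq_fintype_card] at this
  obtain ⟨n, hn⟩ := hW b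
  refine hb1 (Subtype.ext (show (b : W) = 1 from ?_)).symm
  rw [← pow_one (b : W), ← (hK.pow_right n), pow_gcd_eq_one]
  exact ⟨h1, hn⟩

/-- The class two case of the `P × Q` lemma for a normal `Q` and odd `p`. -/
theorem fixed_of_class_two {X L : Type*} [Group X] [Finite X] [Group L] [Finite L] {p : ℕ} [hp : Fact p.Prime]
    (hp2 : p ≠ 2) (hX : IsPGroup p X) (hc : commutator X ≤ center X) (φ : L →* Monoid.End X) {E K : Subgroup L}
    (hE : IsPGroup p E) (hK : (Nat.card K).Coprime p) (hEK : E ≤ normalizer (K : Set L))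
    (h : ∀ x, (∀ e ∈ E, φ e x = x) → ∀ k ∈ K, φ k x = x) : ∀ k ∈ K, ∀ x, φ k x = x := by
  obtain ⟨n, hn⟩ := hX.exists_card_eq
  obtain ⟨m, hm'⟩ := (hp.out.odd_of_ne_two hp2).pow (n := n)
  have hm : ∀ x : X, x ^ (2 * (m + 1)) = x := fun x => by
    rw [show 2 * (m + 1) = 2 * m + 1 + 1 by ring, pow_succ, ← hm', ← hn, pow_card_eq_one', one_mul]
  have : Finite (Baer X (m + 1) hc hm) := Finite.of_equiv _ Baer.equiv.symm
  intro k hk x
  exact congrArg Baer.val (fixed_of_comm (W := Baer X (m + 1) hc hm)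
    (IsPGroup.of_card ((Nat.card_congr Baer.equiv).trans hn)) ((Baer.map hc hm).comp φ) hE hK hEK
    (fun w hw k hk => Baer.ext (h w.val (fun e he => congrArg Baer.val (hw e he)) k hk)) k hk ⟨x⟩)

end CfsgLib.TB
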