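import Mathlib
import Cfsg.Agent.Lib.TB.Baer
import Cfsg.Agent.Lib.BG.Sec1
import Cfsg.Agent.Lib.BG.AmbCore
import Cfsg.Agent.Lib.BG.AmbSol
import Cfsg.Agent.Lib.PLocal.Constrained
import Cfsg.Agent.Lib.Coprime.Abelian

/-! Bender's form of the `P × Q` lemma for odd `p` and the Thompson-Bender lemma. -/

set_option autoImplicit false

namespace CfsgLib.TB

open Cfsg Subgroup CfsgLib.BG
open scoped commutatorElement

variable {G : Type*} [Group G] [Finite G] {p : ℕ}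

/-- The `P × Q` lemma for odd `p` when `P` only normalizes `Q`. -/
theorem odd_cent_of_cent_fixed (hp : p.Prime) (hp2 : p ≠ 2) {V E K : Subgroup G} (hV : IsPiSubgroup {p} V)
    (hE : IsPiSubgroup {p} E) (hK : IsPiSubgroup {p}ᶜ K) (hEV : E ≤ 𝒩(V)) (hKV : K ≤ 𝒩(V)) (hEK : E ≤ 𝒩(K))
    (h : ∀ x ∈ V ⊓ 𝒞(E), x ^ p = 1 → x ∈ 𝒞(K)) : K ≤ 𝒞(V) := by
  have := Fact.mk hp
  by_cases hV1 : V = ⊥
  · rw [hV1, cent_bot]; exact le_top
  have hodd : Odd (Nat.card V) := by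
    obtain ⟨k, hk⟩ := pgp_card hp hV
    rw [hk]
    exact (hp.odd_of_ne_two hp2).pow
  obtain ⟨H, hH, -, h1, h2, h3⟩ := critical_odd hp hV hodd hV1
  refine h3 K hKV hK ?_
  have hEH := hH.norms hEV
  have hKH := hH.norms hKV
  have key := fixed_of_class_two hp2 (pgp_isPGroup (pigroupS hH.1 hV)) (X := H) ?_
    ((MulDistribMulAction.toMonoidEnd (MulAut H) H).comp (normalizerMonoidHom H))
    (E := E.subgroupOf _) (K := K.subgroupOf _) ((pgp_isPGroup hE).comap_subtype) ?_ ?_ ?_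
  · intro k hk x hx
    have : k * x * k⁻¹ = x := congrArg Subtype.val (key ⟨k, hKH hk⟩ hk ⟨x, hx⟩)
    rw [mul_inv_eq_iff_eq_mul] at this
    exact this.symm
  · rw [commutator_def, commutator_le]
    intro a _ b _
    rw [mem_center_iff]
    intro g
    exact Subtype.ext ((h1 (commutator_mem_commutator a.2 (hH.1 b.2))).2 g g.2)
  · rw [Nat.card_congr (subgroupOfEquivOfLe hKH).toEquiv]
    exact (p'group_iff_coprime hp).mp hK
  · rw [le_normalizer_iff]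
    intro e he k hk
    exact conj_mem_of_mem_norm (H := K) (hEK he) (show (k : G) ∈ K from hk)
  · intro x hx k hk
    have hxE : (x : G) ∈ 𝒞(E) := fun e he => by
      have : e * x * e⁻¹ = x := congrArg Subtype.val (hx ⟨e, hEH he⟩ he)
      rwa [mul_inv_eq_iff_eq_mul] at this
    refine Subtype.ext ?_
    change (k : G) * x * (k : G)⁻¹ = x
    rw [h x ⟨hH.1 x.2, hxE⟩ (h2 x x.2) k hk, mul_inv_cancel_right]

omit [Finite G] in
theorem mem_cent_of_mem_inf {V A K : Subgroup G} (hV : IsPiSubgroup {p} V) (hK : IsPiSubgroup {p}ᶜ K)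
    (hKV : K ≤ 𝒩(V)) (hAK : A ≤ 𝒩(K)) : V ⊓ A ≤ 𝒞(K) := by
  rw [← commG1, eq_bot_iff, ← pigroup_TI hV hK]
  exact le_inf ((commSg _ inf_le_left).trans (commg_subl.mpr hKV)) (commg_subr.mpr (inf_le_right.trans hAK))

/-- Thompson-Bender lemma, characteristic `p` case, `p` odd. -/
theorem eq_bot_of_char_p_odd (hp : p.Prime) (hp2 : p ≠ 2) (hc : 𝒞(pCore p G) ≤ pCore p G) {A K : Subgroup G}
    (hA : IsPGroup p A) (hΩ : ∀ x ∈ 𝒞(A), x ^ p = 1 → x ∈ A) (hK : IsPiSubgroup {p}ᶜ K) (hAK : A ≤ 𝒩(K)) :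
    K = ⊥ := by
  have := Fact.mk hp
  have hV := (pigroup_singleton hp).mpr (Core.isPGroup_pCore p G)
  have hn : ∀ L : Subgroup G, L ≤ 𝒩(pCore p G) := fun L => by rw [normalizer_eq_top]; exact le_top
  have := odd_cent_of_cent_fixed hp hp2 hV ((pigroup_singleton hp).mpr hA) hK (hn _) (hn _) hAK
    fun x hx h => mem_cent_of_mem_inf hV hK (hn _) hAK ⟨hx.1, hΩ x hx.2 h⟩
  exact pigroup_eq_bot (pigroupS (this.trans hc) hV) hK

/-- Thompson-Bender lemma, characteristic `p` case, Sylow `p`-subgroups of class at most two. -/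
theorem eq_bot_of_char_p_class_two (hp : p.Prime) (h2 : ∀ S : Subgroup G, IsPGroup p S → ⁅⁅S, S⁆, S⁆ = ⊥)
    (hc : 𝒞(pCore p G) ≤ pCore p G) {A K : Subgroup G} (hA : IsPGroup p A)
    (hΩ : ∀ x ∈ 𝒞(A), ∀ k : ℕ, x ^ p ^ k = 1 → x ∈ A) (hK : IsPiSubgroup {p}ᶜ K) (hAK : A ≤ 𝒩(K)) : K = ⊥ := by
  have := Fact.mk hp
  have hV' := Core.isPGroup_pCore p G
  have hV := (pigroup_singleton hp).mpr hV'
  have hn : ∀ L : Subgroup G, L ≤ 𝒩(pCore p G) := fun L => by rw [normalizer_eq_top]; exact le_top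
  set V := pCore p G
  have hCA : V ⊓ 𝒞(A) ≤ 𝒞(K) := fun x hx => by
    obtain ⟨k, hk⟩ := Core.isPGroup_subgroup_iff.mp hV' x hx.1
    exact mem_cent_of_mem_inf hV hK (hn _) hAK ⟨hx.1, hΩ x hx.2 k hk⟩
  have hS := h2 (V ⊔ A) (pgroupY (Or.inr (hn _)) hV' hA)
  have hVA : ⁅V, A⁆ ≤ 𝒞(V ⊔ A) := (commgSS le_sup_left le_sup_right).trans (commG1.mp hS)
  have hVAK : ⁅V, A⁆ ≤ 𝒞(K) :=
    (le_inf (commg_subl.mpr (hn _)) (hVA.trans (centS le_sup_right))).trans hCA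
  have hKA : ⁅K, A⁆ ≤ K := commg_subl.mpr hAK
  have hco := pigroup_coprime hV hK
  have h1 : ⁅K, A⁆ ≤ 𝒞(V) := by
    set W := V ⊓ 𝒞(V) ⊓ 𝒞(K ⊔ A)
    have hW : ⁅V, A⁆ ≤ W := le_inf (le_inf (commg_subl.mpr (hn _)) (hVA.trans (centS le_sup_left)))
      (centsY hVAK (hVA.trans (centS le_sup_right)))
    have hVW : V ≤ 𝒩(W) := cents_norm (cents_symm (inf_le_left.trans inf_le_right))
    have hKW : K ⊔ A ≤ 𝒩(W) := cents_norm (cents_symm inf_le_right)
    refine stable_factor_cent (K := W) (hKA.trans (cents_symm (inf_le_right.trans (centS le_sup_left)))) ?_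
      (coprimeSS (inf_le_left.trans inf_le_left) hKA hco)
    rw [commGC]
    refine Core.three_subgroups_of_le_normalizer (le_sup_left.trans hKW) (le_sup_right.trans hKW) hVW ?_ ?_
    · rw [commGC A, commG1.mpr hVAK]; exact bot_le
    · exact (commSg _ (commg_subl.mpr (hn _))).trans hW
  have h2 : K ≤ 𝒞(A) := commG1.mp (pigroup_eq_bot (pigroupS (h1.trans hc) hV) (pigroupS hKA hK))
  have := Coprime.thompson_p_times_q hA ((p'group_iff_coprime hp).mp hK) hV' (cents_symm h2) (hn _) (hn _) hCA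
  exact pigroup_eq_bot (pigroupS (this.trans hc) hV) hK

theorem exists_lift_cent (hp : p.Prime) {Q : Type*} [Group Q] {f : G →* Q} (hf : Function.Surjective f)
    (hk : (Nat.card f.ker).Coprime p) {A : Subgroup G} (hA : IsPGroup p A) {y : Q} (hy : y ∈ 𝒞(A.map f)) {k : ℕ}
    (h : y ^ p ^ k = 1) : ∃ x ∈ 𝒞(A), f x = y ∧ x ^ p ^ k = 1 := by
  have := Fact.mk hp
  obtain ⟨g, rfl⟩ := hf y
  obtain ⟨n, hn, e⟩ := PLocal.Constr.exists_mem_centralizer_of_coprime_ker hk hA hy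
  obtain ⟨a, b, hab⟩ := Nat.isCoprime_iff_coprime.mpr (hk.pow_right k)
  refine ⟨n ^ (a * Nat.card f.ker), zpow_mem hn _, ?_, ?_⟩
  · rw [map_zpow, e, eq_sub_of_add_eq hab, zpow_sub, zpow_one, mul_comm b, zpow_mul, zpow_natCast, h, one_zpow,
      inv_one, mul_one]
  · have : n ^ p ^ k ∈ f.ker := by rw [MonoidHom.mem_ker, map_pow, e, h]
    have h1 : (n ^ p ^ k) ^ Nat.card f.ker = 1 := congrArg Subtype.val (pow_card_eq_one' (x := (⟨_, this⟩ : f.ker)))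
    rw [← zpow_natCast, ← zpow_mul, mul_comm, mul_comm a, ← mul_assoc, zpow_mul, zpow_mul,
      zpow_natCast, zpow_natCast, h1, one_zpow]

omit [Finite G] in
theorem map_pigroup {Q : Type*} [Group Q] (f : G →* Q) {π : Set ℕ} {K : Subgroup G} (hK : IsPiSubgroup π K) :
    IsPiSubgroup π (K.map f) := IsPiNat.of_dvd hK (card_map_dvd _ _)

/-- The Thompson-Bender lemma. -/
theorem le_pPrimeCore_of_odd (hp : p.Prime) (hp2 : p ≠ 2) (hc : IsPConstrained p G) {A K : Subgroup G}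
    (hA : IsPGroup p A) (hΩ : ∀ x ∈ 𝒞(A), x ^ p = 1 → x ∈ A) (hK : IsPiSubgroup {p}ᶜ K) (hAK : A ≤ 𝒩(K)) :
    K ≤ pPrimeCore p G := by
  have := Fact.mk hp
  rw [← QuotientGroup.ker_mk' (pPrimeCore p G), ← Subgroup.map_eq_bot_iff]
  refine eq_bot_of_char_p_odd hp hp2 (PLocal.Constr.isPConstrained_iff.mp hc) (hA.map _) (fun y hy h => ?_)
    (map_pigroup _ hK) ((map_mono hAK).trans (le_normalizer_map _))
  obtain ⟨x, hx, rfl, h1⟩ := exists_lift_cent hp (QuotientGroup.mk'_surjective _) PLocal.Constr.coprime_ker_mk' hA hy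
    (k := 1) (by rwa [pow_one])
  exact mem_map_of_mem _ (hΩ x hx (by rwa [pow_one] at h1))

/-- The Thompson-Bender lemma for Sylow `p`-subgroups of class at most two. -/
theorem le_pPrimeCore_of_class_two (hp : p.Prime) (h2 : ∀ S : Subgroup G, IsPGroup p S → ⁅⁅S, S⁆, S⁆ = ⊥)
    (hc : IsPConstrained p G) {A K : Subgroup G} (hA : IsPGroup p A)
    (hΩ : ∀ x ∈ 𝒞(A), ∀ k : ℕ, x ^ p ^ k = 1 → x ∈ A) (hK : IsPiSubgroup {p}ᶜ K) (hAK : A ≤ 𝒩(K)) :
    K ≤ pPrimeCore p G := by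
  have := Fact.mk hp
  rw [← QuotientGroup.ker_mk' (pPrimeCore p G), ← Subgroup.map_eq_bot_iff]
  refine eq_bot_of_char_p_class_two hp (fun S hS => ?_) (PLocal.Constr.isPConstrained_iff.mp hc) (hA.map _)
    (fun y hy k h => ?_) (map_pigroup _ hK) ((map_mono hAK).trans (le_normalizer_map _))
  · obtain ⟨T, hT, rfl⟩ := PLocal.Constr.exists_isPGroup_map_eq (QuotientGroup.mk'_surjective _) hS
    rw [← map_commutator, ← map_commutator, h2 T hT, Subgroup.map_bot]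
  · obtain ⟨x, hx, rfl, h1⟩ :=
      exists_lift_cent hp (QuotientGroup.mk'_surjective _) PLocal.Constr.coprime_ker_mk' hA hy h
    exact mem_map_of_mem _ (hΩ x hx k h1)

/-- Ambient form of both versions of the Thompson-Bender lemma. -/
theorem le_oppOf (hp : p.Prime) (h2 : p = 2 → ∀ S : Subgroup G, IsPGroup p S → ⁅⁅S, S⁆, S⁆ = ⊥) {M A K : Subgroup G}
    (hc : IsPConstrained p M) (hAM : A ≤ M) (hKM : K ≤ M) (hA : IsPGroup p A)
    (hΩ : ∀ x ∈ 𝒞(A), ∀ k : ℕ, x ^ p ^ k = 1 → x ∈ A) (hK : IsPiSubgroup {p}ᶜ K) (hAK : A ≤ 𝒩(K)) :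
    K ≤ oppOf p M := by
  rw [oppOf_eq_map hp, ← map_subgroupOf_eq_of_le hKM]
  have hΩ' : ∀ x ∈ 𝒞(A.subgroupOf M), ∀ k : ℕ, x ^ p ^ k = 1 → x ∈ A.subgroupOf M := fun x hx k h =>
    hΩ x (fun a ha => congrArg Subtype.val (hx ⟨a, hAM ha⟩ ha)) k (congrArg Subtype.val h)
  have hK' : IsPiSubgroup {p}ᶜ (K.subgroupOf M) := by
    rwa [isPiSubgroup_iff, Nat.card_congr (subgroupOfEquivOfLe hKM).toEquiv]
  have hAK' : A.subgroupOf M ≤ 𝒩(K.subgroupOf M) := by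
    rw [le_normalizer_iff]
    intro e he k hk
    exact conj_mem_of_mem_norm (H := K) (hAK he) (show (k : G) ∈ K from hk)
  refine map_mono ?_
  by_cases hp2 : p = 2
  · refine le_pPrimeCore_of_class_two hp (fun S hS => ?_) hc hA.comap_subtype hΩ' hK' hAK'
    rw [← map_eq_bot_iff_of_injective _ M.subtype_injective, map_commutator, map_commutator]
    exact h2 hp2 _ (hS.map _)
  · exact le_pPrimeCore_of_odd hp hp2 hc hA.comap_subtype (fun x hx h => hΩ' x hx 1 (by rwa [pow_one])) hK' hAK'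

end CfsgLib.TB
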